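import Cfsg.Agent.YF.Defs

/-!
# Project YF (S3226): involutions of the alternating groups are products of squares in their centralisers
-/

set_option autoImplicit false

namespace CL.YF

open Subgroup Equiv Equiv.Perm
open scoped commutatorElement

namespace Alt

variable {α : Type*} [Fintype α] [DecidableEq α] {u : Perm α}

omit [Fintype α] in
theorem comm_swap {e f : α} (h : u e = f ∧ u f = e ∨ u e = e ∧ u f = f) : Commute (swap e f) u := by
  refine (mul_inv_eq_iff_eq_mul.1 ?_).symm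
  rw [← swap_apply_apply]
  rcases h with ⟨h, h'⟩ | ⟨h, h'⟩ <;> rw [h, h']
  exact swap_comm _ _

theorem exists_pair (hn : 6 ≤ Fintype.card α) (hu : ∀ x, u (u x) = x) (a c : α) :
    ∃ e f, e ≠ f ∧ e ∉ ({a, u a, c, u c} : Finset α) ∧ f ∉ ({a, u a, c, u c} : Finset α) ∧ Commute (swap e f) u := by
  have h1 : ∀ e ∉ ({a, u a, c, u c} : Finset α), u e ∉ ({a, u a, c, u c} : Finset α) := fun e he h => he (by
    rw [← hu e]
    simp only [Finset.mem_insert, Finset.mem_singleton] at h ⊢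
    rcases h with h | h | h | h <;> simp [h, hu])
  have h2 : ∀ s : Finset α, s.card ≤ 5 → ∃ x, x ∉ s := fun s hs =>
    (Finset.exists_mem_notMem_of_card_lt_card (t := Finset.univ) (by rw [Finset.card_univ]; omega)).imp fun _ h => h.2
  obtain ⟨e, he⟩ := h2 {a, u a, c, u c} (Finset.card_le_four.trans (by norm_num))
  obtain ⟨f, hf⟩ := h2 {e, a, u a, c, u c} Finset.card_le_five
  rw [Finset.mem_insert, not_or] at hf
  by_cases e1 : u e = e
  · by_cases e2 : u f = f
    · exact ⟨f, e, hf.1, hf.2, he, comm_swap (.inr ⟨e2, e1⟩)⟩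
    · exact ⟨f, u f, Ne.symm e2, hf.2, h1 f hf.2, comm_swap (.inl ⟨rfl, hu f⟩)⟩
  · exact ⟨e, u e, Ne.symm e1, he, h1 e he, comm_swap (.inl ⟨rfl, hu e⟩)⟩

theorem two_mem (hn : 6 ≤ Fintype.card α) (u : alternatingGroup α) (hu : ∀ x, u.1 (u.1 x) = x) {a c : α}
    (ha : u.1 a ≠ a) (hc : u.1 c ≠ c) : swap a (u.1 a) * swap c (u.1 c) ∈ (SqC u).map (alternatingGroup α).subtype := by
  by_cases e1 : c = a
  · rw [e1, swap_mul_self]; exact one_mem _
  by_cases e2 : c = u.1 a
  · rw [e2, hu, swap_comm, swap_mul_self]; exact one_mem _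
  have e3 : u.1 c ≠ a := fun h => e2 (by rw [← h, hu])
  have e4 : u.1 c ≠ u.1 a := u.1.injective.ne e1
  obtain ⟨e, f, h1, h2, h3, h4⟩ := exists_pair hn hu a c
  simp only [Finset.mem_insert, Finset.mem_singleton, not_or] at h2 h3
  let x : alternatingGroup α := ⟨swap a (u.1 a) * swap e f, mem_alternatingGroup.2 (by simp [ha.symm, h1])⟩
  let y : alternatingGroup α := ⟨swap a c * swap (u.1 a) (u.1 c), mem_alternatingGroup.2 (by
    simp [Ne.symm e1, e4.symm])⟩
  have hx : Commute x u := Subtype.ext ((comm_swap (.inl ⟨rfl, hu a⟩)).mul_left h4).eq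
  have hy : Commute y u := Subtype.ext (mul_inv_eq_iff_eq_mul.1 (show u.1 * (swap a c * swap (u.1 a) (u.1 c)) * u.1⁻¹ =
      swap a c * swap (u.1 a) (u.1 c) by
    rw [← conj_mul, ← swap_apply_apply, ← swap_apply_apply, hu, hu]
    exact (comm_swap (.inr ⟨swap_apply_of_ne_of_ne ha (Ne.symm e2), swap_apply_of_ne_of_ne e3 hc⟩)).eq)).symm
  refine ⟨_, comm_mem hx hy, ?_⟩
  change x.1 * y.1 * x.1⁻¹ * y.1⁻¹ = _
  rw [mul_assoc, mul_assoc, ← mul_assoc y.1, ← conj_inv]
  simp only [x]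
  rw [← conj_mul, ← swap_apply_apply, ← swap_apply_apply]
  have k1 : y.1 a = c := by simp [y, swap_apply_of_ne_of_ne ha.symm e3.symm]
  have k2 : y.1 (u.1 a) = u.1 c := by simp [y, swap_apply_of_ne_of_ne e3 hc]
  have k3 : ∀ e, e ≠ a ∧ e ≠ u.1 a ∧ e ≠ c ∧ e ≠ u.1 c → y.1 e = e := fun e h => by
    simp [y, swap_apply_of_ne_of_ne h.2.1 h.2.2.2, swap_apply_of_ne_of_ne h.1 h.2.2.1]
  rw [k1, k2, k3 e h2, k3 f h3]
  simp [mul_assoc]

theorem main (hu : ∀ x, u (u x) = x) {H : Subgroup (Perm α)} {s : Perm α} (hs : s * s = 1)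
    (h : ∀ a, u a ≠ a → swap a (u a) * s ∈ H) (v : Perm α) (hv : ∀ x, v x = u x ∨ v x = x) : v ∈ H ∨ s * v ∈ H := by
  induction hn : v.support.card using Nat.strong_induction_on generalizing v with | _ n ih
  by_cases e : v = 1
  · exact .inl (e ▸ one_mem H)
  obtain ⟨a, ha⟩ : ∃ a, v a ≠ a := not_forall.1 fun h => e (Equiv.ext h)
  have h1 : v a = u a := (hv a).resolve_right ha
  have h2 : v (v a) = a := by
    rw [((hv (v a)).resolve_right (v.injective.ne ha)), h1, hu]
  have h3 := h a (h1 ▸ ha)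
  rw [← h1] at h3
  rcases ih _ (hn ▸ card_support_swap_mul ha) (swap a (v a) * v) (fun x => by
    rw [mul_apply]
    by_cases e1 : x = a
    · simp [e1]
    by_cases e2 : x = v a
    · simp [e2, h2]
    rw [swap_apply_of_ne_of_ne (fun h => e2 (v.injective (h.trans h2.symm))) (v.injective.ne e1)]
    exact hv x) rfl with h4 | h4
  · refine .inr ?_
    have := mul_mem (inv_mem h3) h4
    rwa [mul_inv_rev, mul_assoc, inv_mul_cancel_left, inv_eq_of_mul_eq_one_right hs] at this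
  · refine .inl ?_
    have := mul_mem h3 h4
    rwa [mul_assoc, ← mul_assoc s, hs, one_mul, ← mul_assoc, swap_mul_self, one_mul] at this

end Alt

theorem sq_alt {n : ℕ} (hn : 6 ≤ n) : Sq (alternatingGroup (Fin n)) := by
  refine ⟨⊥, IsPGroup.of_bot, fun u hu _ => ?_⟩
  have h1 : ∀ x, u.1 (u.1 x) = x := fun x => congrArg (fun g : alternatingGroup (Fin n) => g.1 x) hu
  by_cases e : u = 1
  · exact e ▸ one_mem _
  obtain ⟨c, hc⟩ : ∃ c, u.1 c ≠ c := not_forall.1 fun h => e (Subtype.ext (Equiv.ext h))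
  rcases Alt.main h1 (swap_mul_self c (u.1 c)) (fun a ha => Alt.two_mem (by simpa using hn) u h1 ha hc) u.1
    fun _ => .inl rfl with ⟨v, hv, e⟩ | ⟨v, -, e⟩
  · exact (Subtype.ext e : v = u) ▸ hv
  · have := congrArg sign e
    rw [Perm.sign_mul, sign_swap hc.symm, mem_alternatingGroup.1 u.2, coe_subtype, mem_alternatingGroup.1 v.2] at this
    exact absurd this (by decide)

end CL.YF
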