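import Cfsg.Agent.YF.Defs

/-!
# Project YF, job RA: the root systems of type `A`
-/

set_option autoImplicit false

namespace CL.YF

open Cfsg CL.Chev CL.InvOdd Finset

namespace RA

variable {n : ℕ} {γ : Equiv.Perm (PhiA (n + 1))}

theorem exists_W (σ : Equiv.Perm (Fin (n + 1))) : ∃ w ∈ (euclA n).rs.W, ∀ r, w r = PhiA.perm σ r := by
  induction σ using Equiv.Perm.swap_induction_on with
  | one => exact ⟨1, one_mem _, fun _ => rfl⟩
  | swap_mul f x y h ih =>
    obtain ⟨w, hw, e⟩ := ih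
    refine ⟨(euclA n).rs.refl ⟨(x, y), h⟩ * w, mul_mem (RS.refl_mem_W _ _) hw, fun r => ?_⟩
    rw [Equiv.Perm.mul_apply, e]
    exact (euclA n).refl_eq_iff.2 (PhiA.vec_perm ⟨(x, y), h⟩ (PhiA.perm f r))

theorem exists_nu {f : PhiA (n + 1) → ℤ} (hf : (euclA n).rs.Lin f) :
    ∃ ν : Fin (n + 1) → ℤ, ∀ r, f r = ν r.1.1 - ν r.1.2 := by
  refine ⟨∑ i, f ((euclA n).simple i) • tailVec i, fun r => ?_⟩
  have h := (euclA n).sum_rt (∑ i, f ((euclA n).simple i) • tailVec i) r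
  rw [lin_eq_sum hf]
  refine (sum_congr rfl fun j _ => ?_).trans (h.trans (by simp only [euclA, PhiA.vec, dotProduct_sub,
    dotProduct_single, mul_one]))
  rw [mul_comm, dotProduct_comm, show (euclA n).vec ((euclA n).simple j) = aVec j from rfl]
  simp only [dotProduct_sum, dotProduct_smul, aVec_tail, smul_eq_mul, mul_ite, mul_one, mul_zero, sum_ite_eq,
    mem_univ, if_true]
  rfl

theorem pair_eq (r s : PhiA (n + 1)) : (euclA n).rs.pair r s = r.vec s.1.1 - r.vec s.1.2 := by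
  rw [EuclA.pair_eq, PhiA.vec.eq_1 s, dotProduct_sub, dotProduct_single, dotProduct_single, mul_one, mul_one]

theorem ne (hn : 2 ≤ n) (r : PhiA (n + 1)) : NE (euclA n).rs r := by
  obtain ⟨x, hx⟩ := EuclA.exists_not_mem [r.1.1, r.1.2] (by simp; omega)
  simp only [List.mem_cons, List.not_mem_nil, or_false, not_or] at hx
  exact ⟨⟨(x, r.1.2), hx.2⟩, by simp [pair_eq, PhiA.vec, hx, r.2.symm]⟩

theorem good (hn : 2 ≤ n) (h : ∀ r : PhiA (n + 1), r.1.2 = r.1.1.rev → γ r = r) : Good (euclA n).rs γ := by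
  refine ⟨fun α => ?_, {r | r.1.2 = r.1.1.rev ∧ r.1.1 < r.1.2}, fun β hβ => ⟨h β hβ.1, ne hn β⟩,
    fun β hβ β' hβ' e => ?_, fun f hf _ hB => ?_⟩
  · have h0 := α.2
    by_cases ha : α.1.1 = α.1.1.rev
    · have hb : α.1.2 ≠ α.1.2.rev := fun hb => h0 (by
        simp only [Fin.ext_iff, Fin.val_rev] at ha hb ⊢; omega)
      refine ⟨⟨(α.1.2, α.1.2.rev), hb⟩, h _ rfl, ne hn _, ?_⟩
      simp only [pair_eq, PhiA.vec, Pi.sub_apply, Pi.single_apply, if_neg h0, if_neg hb, if_true]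
      split_ifs <;> omega
    · refine ⟨⟨(α.1.1, α.1.1.rev), ha⟩, h _ rfl, ne hn _, ?_⟩
      simp only [pair_eq, PhiA.vec, Pi.sub_apply, Pi.single_apply, if_neg h0.symm, if_neg ha, if_true]
      split_ifs <;> omega
  · have e' : β.1.1 ≠ β'.1.1 := fun e' => e (Subtype.ext (Prod.ext e' (by rw [hβ.1, hβ'.1, e'])))
    obtain ⟨h1, h2⟩ := hβ
    obtain ⟨h3, h4⟩ := hβ'
    simp only [pair_eq, PhiA.vec, Pi.sub_apply, Pi.single_apply, Fin.ext_iff, Fin.val_rev, Fin.lt_def, ne_eq] at *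
    split_ifs <;> omega
  obtain ⟨ν, hν⟩ := exists_nu hf
  let c := ν ⟨n / 2, by omega⟩
  let a : Fin (n + 1) → ℤ := fun i => if i < i.rev then ν i - c else 0
  have k1 : ∀ i, Even (ν i - c - (a i - a i.rev)) := fun i => by
    rcases lt_trichotomy i i.rev with e | e | e
    · simp [a, e, e.not_gt]
    · rw [← e, show i = ⟨n / 2, by omega⟩ by simp only [Fin.ext_iff, Fin.val_rev] at e ⊢; omega]
      simp [c]
    · have := hB ⟨(i.rev, i), e.ne⟩ ⟨i.rev_rev.symm, e⟩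
      rw [hν] at this
      simp only [a, if_neg e.not_gt, Fin.rev_rev, if_pos e, Int.even_iff] at this ⊢
      omega
  let v : Fin (n + 1) → Fin (n + 1) → ℤ := fun i => Pi.single i 1 - Pi.single i.rev 1
  have k2 : ∀ k, ∑ i, a i * v i k = a k - a k.rev := fun k => by
    simp [v, Pi.single_apply, mul_sub, sum_sub_distrib, eq_comm (a := k) (b := Fin.rev _), Fin.rev_eq_iff]
  refine (Span.sum univ (g := fun i => a i • fun r : PhiA (n + 1) => v i r.1.1 - v i r.1.2) fun i _ =>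
    Span.smul ?_ _).congr fun r => ?_
  · by_cases e : i = i.rev
    · exact .even fun r => by simp [v, ← e]
    · exact (Span.fix (h ⟨(i, i.rev), e⟩ rfl)).congr fun r => by simp [pair_eq, PhiA.vec, v]
  · have h1 := k1 r.1.1
    have h2 := k1 r.1.2
    simp only [hν, Finset.sum_apply, Pi.smul_apply, smul_eq_mul, mul_sub, sum_sub_distrib, k2, Int.even_iff] at h1 h2 ⊢
    omega

end RA

theorem cond_A {n : ℕ} (hn : 2 ≤ n) : Cond (euclA n).rs 1 ∧ Cond (euclA n).rs (negP (euclA n).rs) := by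
  obtain ⟨w, hw, e⟩ := RA.exists_W (n := n) Fin.revPerm
  refine ⟨⟨⟨1, one_mem _, RA.good hn fun _ _ => rfl⟩, w, hw, RA.good hn fun r h => ?_⟩,
    ⟨w, hw, RA.good hn fun r h => ?_⟩, 1, one_mem _, RA.good hn fun r _ => by rw [mul_one, negP_mul_self]; rfl⟩ <;>
  simp only [mul_one, Equiv.Perm.mul_apply, negP_apply, EuclA.neg_eq, e] <;>
  exact Subtype.ext (Prod.ext (by simp [PhiA.perm, PhiA.star, h]) (by simp [PhiA.perm, PhiA.star, h]))

end CL.YF
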