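import Cfsg.Agent.YF.Defs

/-!
# Project YF (S3226): the root condition in the types `B`, `C`, `D`
-/

set_option autoImplicit false

namespace CL.YF

open Cfsg CL.Chev CL.Chev.EuclK CL.InvOdd Finset Sum

attribute [-simp] zsmul_eq_mul

namespace RK

section Sg

variable {m : ℕ}

@[simp] theorem inl_dot (i : Fin m) (v : Fin m → ℤ) : eps (inl i) ⬝ᵥ v = v i := by simp [eps]
@[simp] theorem inr_dot (i : Fin m) (v : Fin m → ℤ) : eps (inr i) ⬝ᵥ v = - v i := by simp [eps]
@[simp] theorem dot_inl (i : Fin m) (v : Fin m → ℤ) : v ⬝ᵥ eps (inl i) = v i := by simp [eps]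
@[simp] theorem dot_inr (i : Fin m) (v : Fin m → ℤ) : v ⬝ᵥ eps (inr i) = - v i := by simp [eps]
@[simp] theorem inl_apply (i j : Fin m) : eps (inl i) j = if j = i then 1 else 0 := by simp [eps, Pi.single_apply]
@[simp] theorem inr_apply (i j : Fin m) : eps (inr i) j = if j = i then -1 else 0 := by
  simp [eps, Pi.single_apply]; split_ifs <;> rfl
theorem oll {i j : Fin m} (h : i ≠ j) : eps (inl i) ⬝ᵥ eps (inl j) = 0 := by simp [h.symm]
theorem olr {i j : Fin m} (h : i ≠ j) : eps (inl i) ⬝ᵥ eps (inr j) = 0 := by simp [h.symm]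

theorem sg_eps (c : Fin m → ℤˣ) (a : Fin m ⊕ Fin m) : ∃ a', (a' = a ∨ a' = a.swap) ∧ ∀ j, eps a' j = c j * eps a j := by
  rcases Int.units_eq_one_or (c (Sum.elim id id a)) with e | e
  · exact ⟨a, .inl rfl, fun j => by cases a <;> simp_all⟩
  · exact ⟨a.swap, .inr rfl, fun j => by cases a <;> simp_all <;> split_ifs <;> simp_all⟩

theorem isRt_sg {k : ℤ} (c : Fin m → ℤˣ) {v : Fin m → ℤ} (h : IsRt k v) : IsRt k fun j => c j * v j := by
  rcases h with ⟨a, b, h, rfl⟩ | ⟨h, a, rfl⟩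
  · obtain ⟨a', h1, h2⟩ := sg_eps c a
    obtain ⟨b', h3, h4⟩ := sg_eps c b
    exact .inl ⟨a', b', by rcases h1 with rfl | rfl <;> rcases h3 with rfl | rfl <;> simp [h],
      funext fun j => by simp [h2, h4, mul_add]⟩
  · obtain ⟨a', -, h2⟩ := sg_eps c a
    exact .inr ⟨h, a', funext fun j => by simp [h2, mul_left_comm]⟩

/-- The sign changes. -/
def sg (k : ℤ) (m : ℕ) : (Fin m → ℤˣ) →* Equiv.Perm (PhiK k m) :=
  MonoidHom.toHomPerm
    { toFun c r := ⟨fun j => c j * r.1 j, isRt_sg c r.2⟩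
      map_one' := funext fun r => Subtype.ext (funext fun j => one_mul _)
      map_mul' c d := funext fun r => Subtype.ext (funext fun j => mul_assoc (c j : ℤ) (d j) _) }

@[simp] theorem sg_val {k : ℤ} (c : Fin m → ℤˣ) (r : PhiK k m) (j : Fin m) : (sg k m c r).1 j = c j * r.1 j := rfl

theorem odd_one_dot (a : Fin m ⊕ Fin m) : Odd (∑ j, eps a j) := by cases a <;> simp

end Sg

variable {k : ℤ} (hk : k = 0 ∨ k = 1 ∨ k = 2) {n : ℕ}

theorem negP_eq : negP (euclK hk n).rs = sg k (n + 2) (-1) := Equiv.ext fun r => Subtype.ext (funext fun j => by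
  have := congrFun ((euclK hk n).vec_neg r) j
  simpa [vec_eq] using this)

theorem sg_one_mem (h : k ≠ 0) (i : Fin (n + 2)) : sg k (n + 2) (Pi.mulSingle i (-1)) ∈ (euclK hk n).rs.W := by
  convert (euclK hk n).rs.refl_mem_W (ext h (inl i))
  refine Equiv.ext fun r => ((euclK hk n).refl_eq_iff.2 (funext fun j => ?_)).symm
  simp only [cvec_ext, vec_eq, ext_val]
  by_cases e : j = i
  · subst e; rcases hk.resolve_left h with rfl | rfl <;> simp <;> ring
  · simp [e]

theorem sg_two_mem {i j : Fin (n + 2)} (h : i ≠ j) :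
    sg k (n + 2) (Pi.mulSingle i (-1) * Pi.mulSingle j (-1)) ∈ (euclK hk n).rs.W := by
  convert mul_mem ((euclK hk n).rs.refl_mem_W (mid k (olr h))) ((euclK hk n).rs.refl_mem_W (mid k (oll h)))
  refine Equiv.ext fun r => ((euclK hk n).refl_eq_iff.2 (funext fun l => ?_)).symm
  rw [Eucl.vec_refl]
  simp only [cvec_mid, vec_eq, mid_val]
  by_cases e : l = i
  · subst e; simp [h, h.symm]
  by_cases e' : l = j
  · subst e'; simp [h, h.symm]
  · simp [e, e']

theorem sg_mem (c : Fin (n + 2) → ℤˣ) (h : k ≠ 0 ∨ ∏ i, c i = 1) : sg k (n + 2) c ∈ (euclK hk n).rs.W := by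
  change c ∈ (euclK hk n).rs.W.comap (sg k (n + 2))
  rcases h with h | h
  · rw [← univ_prod_mulSingle c]
    refine prod_mem fun i _ => ?_
    rcases Int.units_eq_one_or (c i) with e | e <;> rw [e]
    exacts [by rw [Pi.mulSingle_one]; exact one_mem _, sg_one_mem hk h i]
  · have : c = ∏ i, (Pi.mulSingle i (c i) * Pi.mulSingle 0 (c i)) := by
      rw [prod_mul_distrib, univ_prod_mulSingle, eq_comm, mul_eq_left]
      exact (map_prod (MonoidHom.mulSingle (fun _ => ℤˣ) 0) c univ).symm.trans (by rw [h, map_one])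
    rw [this]
    refine prod_mem fun i _ => ?_
    rcases Int.units_eq_one_or (c i) with e | e <;> rw [e]
    · rw [Pi.mulSingle_one, Pi.mulSingle_one, mul_one]; exact one_mem _
    by_cases e' : i = 0
    · rw [e', ← Pi.mulSingle_mul, neg_mul_neg, mul_one, Pi.mulSingle_one]; exact one_mem _
    · exact sg_two_mem hk e'

theorem cond_of (h : k ≠ 0) (g : Good (euclK hk n).rs 1) : Cond (euclK hk n).rs 1 :=
  ⟨⟨1, one_mem _, by rwa [mul_one]⟩, _, negP_eq hk ▸ sg_mem hk _ (.inl h), by rwa [negP_mul_self, mul_one]⟩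

theorem exists_mu {f : PhiK k (n + 2) → ℤ} (hf : (euclK hk n).rs.Lin f) : ∃ μ : Fin (n + 2) → ℤ, ∀ r, 2 * f r = μ ⬝ᵥ r.1 := by
  set a := fun i => f ((euclK hk n).rs.simple i) with ha
  obtain ⟨μ, hμ⟩ : ∃ μ : Fin (n + 2) → ℤ, ∀ i, sVec k i ⬝ᵥ μ = 2 * a i := by
    refine ⟨(if k = 0 then a none - a (some 0) else 2 / k * a none) • 1 + (2 : ℤ) • ∑ i, a (some i) • tailVec i, ?_⟩
    rintro (_ | i)
    · rcases hk with rfl | rfl | rfl <;> simp [sVec, tailVec, Fin.sum_univ_succ, Fin.lt_def]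
      ring
    · rw [dotProduct_add, dotProduct_smul, sVec, aVec_one]
      simp [dotProduct_sum, aVec_tail]
  refine ⟨μ, fun r => ?_⟩
  rw [lin_eq_sum hf, mul_sum, ← vec_eq hk, ← (euclK hk n).sum_rt]
  refine sum_congr rfl fun i _ => ?_
  rw [dotProduct_comm]
  exact (mul_left_comm _ _ _).trans ((mul_comm _ _).trans (congrArg (· * _) (hμ i).symm))

theorem exists_nu {f : PhiK k (n + 2) → ℤ} {μ : Fin (n + 2) → ℤ} (h : ∀ r, 2 * f r = μ ⬝ᵥ r.1) {i : Fin (n + 2)}
    (hi : Even (μ i)) : ∃ ν : Fin (n + 2) → ℤ, ∀ r, f r = ν ⬝ᵥ r.1 := by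
  have h1 : ∀ j, ∃ x, μ j = 2 * x := fun j => by
    obtain ⟨x, hx⟩ := hi
    by_cases e : j = i
    · exact ⟨x, by rw [e, hx, two_mul]⟩
    · have := h (mid k (olr e))
      simp at this
      exact ⟨x + f (mid k (olr e)), by omega⟩
  choose ν hν using h1
  refine ⟨ν, fun r => mul_left_cancel₀ two_ne_zero ?_⟩
  rw [h, show μ = (2 : ℤ) • ν from funext hν, smul_dotProduct, smul_eq_mul]

theorem span_of {γ : Equiv.Perm (PhiK k (n + 2))} (h : ∀ i, Span (euclK hk n).rs γ fun r => r.1 i)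
    {f : PhiK k (n + 2) → ℤ} {μ : Fin (n + 2) → ℤ} (hf : ∀ r, 2 * f r = μ ⬝ᵥ r.1) {i : Fin (n + 2)} (hi : Even (μ i)) :
    Span (euclK hk n).rs γ f := by
  obtain ⟨ν, hν⟩ := exists_nu hf hi
  convert Span.sum univ fun i _ => (h i).smul (ν i)
  ext r
  simp [hν, dotProduct]

theorem fresh1 (a : Fin (n + 2) ⊕ Fin (n + 2)) : ∃ x, eps a ⬝ᵥ eps x = 0 ∧ eps x ⬝ᵥ eps a = 0 := by
  simpa using exists_fresh [a] (by simp)

theorem good_B : Good (euclK (.inr (.inl rfl)) n).rs 1 := by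
  have ne : ∀ {a b} (h : eps a ⬝ᵥ eps b = 0), NE (euclK (.inr (.inl rfl)) n).rs (mid 1 h) := fun {a b} h =>
    ⟨ext one_ne_zero a, by simp [pair_mid, (dotProduct_comm _ _).trans h]⟩
  refine ⟨fun α => ?_, ∅, by simp, by simp, fun f hf _ _ => ?_⟩
  · rcases cases α with ⟨a, b, h, rfl⟩ | ⟨_, a, rfl⟩
    · exact ⟨_, rfl, ne h, by simp⟩
    · obtain ⟨x, h1, h2⟩ := fresh1 a
      exact ⟨_, rfl, ne h1, by simp [pair_mid, h2]⟩
  · obtain ⟨μ, hμ⟩ := exists_mu _ hf
    refine span_of _ (fun i => ?_) hμ (i := 0) ⟨f (ext one_ne_zero (inl 0)), by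
      have := hμ (ext one_ne_zero (inl 0)); simp at this; omega⟩
    obtain ⟨x, h1, h2⟩ := fresh1 (inl i)
    exact .half (β := ext one_ne_zero (inl i)) (β' := mid 1 h1) rfl rfl
      (by rw [pair_mid, ext_val, one_smul, h2]; simp) fun r => by simp [pair_ext]

theorem good_C : Good (euclK (.inr (.inr rfl)) n).rs 1 := by
  have ne : ∀ a, NE (euclK (.inr (.inr rfl)) n).rs (ext two_ne_zero a) := fun a => by
    obtain ⟨x, h1, -⟩ := fresh1 a
    exact ⟨mid 2 h1, by simp [pair_ext, h1]⟩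
  refine ⟨fun α => ?_, {ext two_ne_zero (inl 0)}, by simp [ne], by simp, fun f hf _ hB => ?_⟩
  · rcases cases α with ⟨a, b, h, rfl⟩ | ⟨_, a, rfl⟩
    · exact ⟨_, rfl, ne a, by simp [pair_ext, h]⟩
    · exact ⟨_, rfl, ne a, by simp⟩
  · obtain ⟨μ, hμ⟩ := exists_mu _ hf
    refine span_of _ (fun i => ?_) hμ (i := 0) (by
      have := hμ (ext two_ne_zero (inl 0))
      simp at this
      exact this ▸ hB _ rfl)
    convert Span.fix (R := (euclK (.inr (.inr rfl)) n).rs) (γ := 1) (β := ext two_ne_zero (inl i)) rfl using 2 with r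
    simp [pair_ext]

theorem mid_D (r : PhiK 0 (n + 2)) : ∃ a b h, r = mid 0 (a := a) (b := b) h :=
  (cases r).resolve_right fun ⟨h, _⟩ => h rfl

theorem ne_D (hn : 2 ≤ n) (r : PhiK 0 (n + 2)) : NE (euclK (.inl rfl) n).rs r := by
  obtain ⟨a, b, h, rfl⟩ := mid_D r
  obtain ⟨x, hx⟩ := exists_fresh [a, b] (by simp; omega)
  simp only [List.mem_cons, List.not_mem_nil, or_false, forall_eq_or_imp, forall_eq] at hx
  exact ⟨mid 0 hx.1.1, by simp [pair_mid, hx, (dotProduct_comm _ _).trans h]⟩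

theorem even_D (r : PhiK 0 (n + 2)) : Even (∑ j, r.1 j) := by
  obtain ⟨a, b, h, rfl⟩ := mid_D r
  simpa [sum_add_distrib] using (odd_one_dot a).add_odd (odd_one_dot b)

theorem abs_D (r : PhiK 0 (n + 2)) (j : Fin (n + 2)) : -1 ≤ r.1 j ∧ r.1 j ≤ 1 := by
  obtain ⟨a, b, h, rfl⟩ := mid_D r
  rw [← inl_dot j (mid 0 h).1, mid_val, dotProduct_add]
  rcases eps_cases (inl j) a with e | e | e
  · rw [e, h, eps_self]; omega
  · rw [e, eps_swap, neg_dotProduct, neg_dotProduct, h, eps_self]; omega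
  · exact e.symm ▸ ⟨by simpa using eps_dot_ge (inl j) b, by simpa using eps_dot_le (inl j) b⟩

theorem span_even {ν : Fin (n + 2) → ℤ} (h : Even (∑ i, ν i)) : Span (euclK (.inl rfl) n).rs 1 fun r => ν ⬝ᵥ r.1 := by
  refine (Span.sum univ fun (i : Fin (n + 1)) _ =>
    (Span.fix (β := mid 0 (oll (Fin.succ_ne_zero i))) rfl).smul (ν i.succ)).congr fun r => ?_
  rw [Fin.sum_univ_succ] at h
  simp only [Finset.sum_apply, Pi.smul_apply, pair_mid, inl_dot, smul_eq_mul, mul_add, sum_add_distrib, ← sum_mul]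
  rw [dotProduct, Fin.sum_univ_succ (n := n + 1)]
  obtain ⟨x, hx⟩ := h
  exact ⟨(ν 0 - x) * r.1 0, by linear_combination (-r.1 0) * hx⟩

theorem good_D (hn : 2 ≤ n) : Good (euclK (.inl rfl) n).rs 1 := by
  have h0 : (0 : Fin (n + 2)) < Fin.rev 0 := by simp [Fin.lt_def]
  refine ⟨fun α => ⟨α, rfl, ne_D hn α, by simp⟩,
    {β | (∃ i, ∃ h : i < Fin.rev i, β = mid 0 (olr h.ne)) ∨ β = mid 0 (oll h0.ne)}, fun β _ => ⟨rfl, ne_D hn β⟩, ?_,
    fun f hf _ hB => ?_⟩
  · rintro _ (⟨i, hi, rfl⟩ | rfl) _ (⟨j, hj, rfl⟩ | rfl) h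
    · have h1 : i ≠ j := by rintro rfl; exact h rfl
      simp only [pair_mid, mid_val, inl_dot, inr_dot, Pi.add_apply, inl_apply, inr_apply]
      simp only [Fin.ext_iff, Fin.val_rev, Fin.lt_def, ne_eq] at hi hj h1 ⊢
      split_ifs <;> omega
    · simp only [pair_mid, mid_val, inl_dot, inr_dot, Pi.add_apply, inl_apply]
      simp only [Fin.ext_iff, Fin.val_rev, Fin.lt_def, Fin.val_zero] at hi ⊢
      split_ifs <;> omega
    · simp only [pair_mid, mid_val, inl_dot, Pi.add_apply, inl_apply, inr_apply]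
      simp only [Fin.ext_iff, Fin.val_rev, Fin.lt_def, Fin.val_zero] at hj ⊢
      split_ifs <;> omega
    · exact absurd rfl h
  obtain ⟨μ, hμ⟩ := exists_mu _ hf
  obtain ⟨ν, hν⟩ := exists_nu hμ (i := 0) (by
    have e1 := hμ (mid 0 (olr h0.ne))
    have e2 := hμ (mid 0 (oll h0.ne))
    simp only [mid_val, dotProduct_add, dot_inl, dot_inr] at e1 e2
    have := (hB _ (.inl ⟨0, h0, rfl⟩)).add (hB _ (.inr rfl))
    rwa [show f _ + f _ = μ 0 by omega] at this)
  have h1 : ∀ i, i < Fin.rev i → Even (ν i + ν (Fin.rev i)) := fun i hi => by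
    have := hB _ (.inl ⟨i, hi, rfl⟩)
    simp only [hν, mid_val, dotProduct_add, dot_inl, dot_inr] at this
    rwa [Int.even_add, even_neg, ← Int.even_add] at this
  rw [funext hν]
  by_cases h2 : Even (∑ i, ν i)
  · exact span_even h2
  rcases Nat.even_or_odd n with e | e
  · refine absurd ((ZMod.intCast_eq_zero_iff_even).1 ?_) h2
    rw [Int.cast_sum]
    refine sum_involution (fun i _ => Fin.rev i) (fun i _ => ?_) (fun i _ _ e' => ?_) (fun _ _ => mem_univ _)
      fun i _ => Fin.rev_rev i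
    · rw [← Int.cast_add, ZMod.intCast_eq_zero_iff_even]
      rcases lt_trichotomy i (Fin.rev i) with h | h | h
      · exact h1 i h
      · rw [← h]; exact Even.add_self _
      · simpa [add_comm] using h1 (Fin.rev i) (by rwa [Fin.rev_rev])
    · obtain ⟨x, hx⟩ := e
      rw [Fin.ext_iff, Fin.val_rev] at e'
      omega
  · refine (span_even (ν := ν + 1) ?_).congr fun r => ?_
    · simp only [Pi.add_apply, Pi.one_apply, sum_add_distrib, sum_const, card_univ, Fintype.card_fin, nsmul_eq_mul,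
        mul_one]
      exact (Int.not_even_iff_odd.1 h2).add_odd (by exact_mod_cast e.add_even even_two)
    · rw [add_dotProduct]; simpa [dotProduct] using even_D r

theorem good_D' (hn : 2 ≤ n) (l : Fin (n + 2)) : Good (euclK (.inl rfl) n).rs (sg 0 (n + 2) (Pi.mulSingle l (-1))) := by
  have fl : ∀ {i} (h : i ≠ l), sg 0 (n + 2) (Pi.mulSingle l (-1)) (mid 0 (olr h)) = mid 0 (oll h) := fun {i} h =>
    Subtype.ext (funext fun j => by by_cases e : j = l <;> simp [e, h.symm])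
  refine ⟨fun α => ?_, ∅, by simp, by simp, fun f hf hγ _ => ?_⟩
  · have key : ∀ {a b} (h : eps a ⬝ᵥ eps b = 0), eps a l = 0 → ∃ β, sg 0 (n + 2) (Pi.mulSingle l (-1)) β = β ∧
        NE (euclK (.inl rfl) n).rs β ∧ (euclK (.inl rfl) n).rs.pair β (mid 0 h) ≠ 0 := fun {a b} h ha => by
      obtain ⟨x, hx⟩ := exists_fresh [a, b, inl l] (by simp; omega)
      simp only [List.mem_cons, List.not_mem_nil, or_false, forall_eq_or_imp, forall_eq, dot_inl] at hx
      exact ⟨mid 0 hx.1.1, Subtype.ext (funext fun j => by by_cases e : j = l <;> simp [e, ha, hx]), ne_D hn _,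
        by simp [pair_mid, hx, h]⟩
    obtain ⟨a, b, h, rfl⟩ := mid_D α
    rcases eps_cases (inl l) a with e | e | e
    · rw [mid_comm]; exact key _ (by rw [← inl_dot l (eps b), e, h])
    · rw [mid_comm]; exact key _ (by rw [← inl_dot l (eps b), e, eps_swap, neg_dotProduct, h, neg_zero])
    · exact key h (by rwa [← inl_dot l (eps a)])
  obtain ⟨μ, hμ⟩ := exists_mu _ hf
  have h1 : ∀ i, i ≠ l → Span (euclK (.inl rfl) n).rs (sg 0 (n + 2) (Pi.mulSingle l (-1))) fun r => r.1 i :=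
    fun i h => .orb (α := mid 0 (olr h))
      (by rw [← Equiv.Perm.mul_apply, ← map_mul, ← Pi.mulSingle_mul]; simp)
      (by simp [fl h, pair_mid, h, h.symm])
      (fun r => by
        have := abs_D r i
        have := abs_D r l
        simp only [fl h, pair_mid, inl_dot, inr_dot, abs_lt]
        omega) fun r => by simp only [fl h, pair_mid, inl_dot, inr_dot]; ring
  obtain ⟨i, hi⟩ := exists_ne l
  refine span_of _ (fun j => ?_) hμ (i := l) (by
    have e1 := hμ (mid 0 (olr hi))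
    have e2 := hμ (mid 0 (oll hi))
    simp only [mid_val, dotProduct_add, dot_inl, dot_inr] at e1 e2
    have := hγ (mid 0 (olr hi))
    rwa [fl hi, show f _ - f _ = μ l by omega] at this)
  by_cases e : j = l
  · refine (Span.sum (univ.erase l) fun i hi => h1 i (ne_of_mem_erase hi)).congr fun r => ?_
    have := even_D r
    rw [← add_sum_erase _ _ (mem_univ l), Int.even_add, ← Int.even_sub] at this
    simpa only [e, Finset.sum_apply] using this
  · exact h1 j e

theorem cond_sg (hn : 2 ≤ n) (c : Fin (n + 2) → ℤˣ) : Cond (euclK (.inl rfl) n).rs (sg 0 (n + 2) c) := by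
  have key : ∀ c : Fin (n + 2) → ℤˣ, ∃ d, ∏ i, d i = 1 ∧ Good (euclK (.inl rfl) n).rs (sg 0 (n + 2) (d * c)) := fun c => by
    rcases Int.units_eq_one_or (∏ i, c i) with e | e
    · exact ⟨c⁻¹, by simp [prod_inv_distrib, e], by rw [inv_mul_cancel, map_one]; exact good_D hn⟩
    · exact ⟨Pi.mulSingle 0 (-1) * c⁻¹, by simp [prod_mul_distrib, prod_inv_distrib, e, prod_pi_mulSingle'],
        by rw [inv_mul_cancel_right]; exact good_D' hn 0⟩
  obtain ⟨d, h1, h2⟩ := key c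
  obtain ⟨d', h3, h4⟩ := key (-1 * c)
  exact ⟨⟨_, sg_mem _ d (.inr h1), by rwa [← map_mul]⟩, _, sg_mem _ d' (.inr h3), by
    rwa [negP_eq, ← map_mul, ← map_mul, mul_comm (-1), mul_assoc]⟩

end RK

theorem cond_B (n : ℕ) : Cond (euclK (.inr (.inl rfl)) n).rs 1 := RK.cond_of _ one_ne_zero RK.good_B

theorem cond_C (n : ℕ) : Cond (euclK (.inr (.inr rfl)) n).rs 1 := RK.cond_of _ two_ne_zero RK.good_C

theorem cond_D {n : ℕ} (hn : 2 ≤ n) : Cond (euclK (.inl rfl) n).rs 1 ∧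
    ∀ ρ : Equiv.Perm (PhiK 0 (n + 2)), IsLastFlip ρ → Cond (euclK (.inl rfl) n).rs ρ :=
  ⟨map_one (RK.sg 0 (n + 2)) ▸ RK.cond_sg hn 1, fun ρ h => by
    convert RK.cond_sg hn (Pi.mulSingle (Fin.last (n + 1)) (-1))
    refine Equiv.ext fun r => Subtype.ext (funext fun j => ?_)
    rw [h]
    split_ifs with e <;> simp [e]⟩

end CL.YF
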